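import Cfsg.Agent.PermutationGroups.AutQuaternion
import Mathlib.GroupTheory.OrderOfElement
import Mathlib
import Cfsg.Agent.Classification.RTwo.Recog
import Cfsg.Agent.S1012
import Cfsg.Agent.Solvable.UniqueOrderP
set_option linter.all false

-- part: H334/AutQEight
section
/-!
# Brute-force facts about the automorphisms of the quaternion group of order 8
-/

set_option autoImplicit false

namespace Cfsg.Agent.H334.AutQEight

open QuaternionGroup Cfsg.Agent.PermutationGroups.AutQuaternion

/-- the exponent facts: every automorphism has order 1, 2, 3 or 4 -/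
theorem cand_order : ∀ x y : QuaternionGroup 2, good x y = true →
    (∀ g, cand x y (cand x y (cand x y g)) = g) ∨
      (∀ g, cand x y (cand x y (cand x y (cand x y g))) = g) := by
  decide +kernel

/-- `(p, q, u)` is a good triple for the automorphism given by `(x, y)` -/
def trip (x y p q u : QuaternionGroup 2) : Bool :=
  good p q && decide (u * u = a 2) && decide (cand x y u * u = 1) &&
    decide (cand p q u * cand p q u = a 2) &&
    decide (cand p q u * u = a 2 * (u * cand p q u)) &&
    decide (cand p q (cand p q u) = u * cand p q u) &&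
    decide (∀ g, cand p q (cand p q (cand p q g)) = g) &&
    decide (∀ g, cand p q (cand x y (cand p q g)) = cand x y g)

theorem exists_trip : ∀ x y : QuaternionGroup 2, good x y = true →
    (∀ g, cand x y (cand x y g) = g) → (∀ w, ∃ g, cand x y g * w ≠ w * g) →
    ∃ p q u : QuaternionGroup 2, trip x y p q u = true := by
  decide +kernel

end Cfsg.Agent.H334.AutQEight
end

-- part: H334/Q8Case
section
/-!
# Groups with a self-centralizing normal quaternion subgroup of order 8

If `D ≅ Q_8` is normal in `Q`, `C_Q(D) ≤ D` and `Q` has no normal Sylow 2-subgroup, then `Q` is `GL(2,3)`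
or the binary octahedral group.
-/

set_option autoImplicit false

namespace Cfsg.Agent.H334.Q8Case

open Subgroup QuaternionGroup Cfsg.Agent.PermutationGroups.AutQuaternion Cfsg.Agent.H334.AutQEight
  Cfsg.Agent.Classification.RTwo.Recog Cfsg.Agent.Transfer.SL23Recog Cfsg.Agent.Transfer.SL23Section

/-- the automorphism with given images of the generators -/
noncomputable def mkAut (x y : QuaternionGroup 2) (h : good x y = true) : MulAut (QuaternionGroup 2) :=
  MulEquiv.ofBijective
      ({ toFun := cand x y, map_one' := cand_one x y, map_mul' := cand_mul x y h } :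
        QuaternionGroup 2 →* QuaternionGroup 2)
      (Finite.injective_iff_bijective.1 (fun g g' => cand_inj x y h g g'))

theorem mkAut_apply (x y : QuaternionGroup 2) (h : good x y = true) (g : QuaternionGroup 2) :
    mkAut x y h g = cand x y g := rfl

theorem mulAut_order (φ : MulAut (QuaternionGroup 2)) : φ ^ 3 = 1 ∨ φ ^ 4 = 1 := by
  rcases cand_order _ _ (good_map φ) with h | h
  · left
    ext g
    rw [pow_succ, pow_two, MulAut.mul_apply, MulAut.mul_apply, MulAut.one_apply,
      eq_cand φ, eq_cand φ (φ g), eq_cand φ g]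
    exact h g
  · right
    ext g
    rw [pow_succ, pow_succ, pow_two, MulAut.mul_apply, MulAut.mul_apply, MulAut.mul_apply,
      MulAut.one_apply, eq_cand φ, eq_cand φ (φ (φ g)), eq_cand φ (φ g), eq_cand φ g]
    exact h g

instance finite_mulAut : Finite (MulAut (QuaternionGroup 2)) :=
  Nat.finite_of_card_ne_zero (by rw [card_mulAut]; norm_num)

theorem mulAut_equiv : Nonempty (MulAut (QuaternionGroup 2) ≃* Equiv.Perm (Fin 4)) := by
  apply Cfsg.Agent.S1012.result card_mulAut
  intro g hg
  rcases mulAut_order g with h | h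
  · have := orderOf_dvd_of_pow_eq_one h
    rw [hg] at this
    norm_num at this
  · have := orderOf_dvd_of_pow_eq_one h
    rw [hg] at this
    norm_num at this

theorem sq_cases : ∀ x : QuaternionGroup 2, x * x = 1 → x = 1 ∨ x = a 2 := by
  decide +kernel

theorem central_cases : ∀ x : QuaternionGroup 2, (∀ y, x * y = y * x) → x = 1 ∨ x = a 2 := by
  decide +kernel

variable {Q : Type*} [Group Q] [Finite Q] (D : Subgroup Q) [D.Normal] (e : D ≃* QuaternionGroup 2)

/-- the conjugation action on `D`, transported to the model -/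
noncomputable def kap : Q →* MulAut (QuaternionGroup 2) :=
  (MulAut.congr e).toMonoidHom.comp (MulAut.conjNormal (H := D))

omit [Finite Q] in
theorem kap_apply (q : Q) (x : D) : kap D e q (e x) = e ⟨q * x * q⁻¹, (‹D.Normal›).conj_mem x x.2 q⟩ := by
  change e (MulAut.conjNormal q (e.symm (e x))) = _
  rw [e.symm_apply_apply]
  congr 1

omit [Finite Q] in
theorem kap_symm (q : Q) (g : QuaternionGroup 2) :
    ((e.symm (kap D e q g) : D) : Q) = q * (e.symm g : D) * q⁻¹ := by
  have h := kap_apply D e q (e.symm g)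
  rw [e.apply_symm_apply] at h
  rw [h, e.symm_apply_apply]

/-- the central involution -/
noncomputable def zz : Q := ((e.symm (a 2) : D) : Q)

omit [Finite Q] [D.Normal] in
theorem zz_mem : zz D e ∈ D := (e.symm (a 2)).2

omit [Finite Q] [D.Normal] in
theorem zz_ne : zz D e ≠ 1 := by
  intro h
  have h1 : e.symm (a 2) = 1 := Subtype.ext h
  have h2 : (a 2 : QuaternionGroup 2) = 1 := by
    rw [← e.apply_symm_apply (a 2), h1, map_one]
  exact absurd h2 (by decide)

omit [Finite Q] [D.Normal] in
theorem zz_mul : zz D e * zz D e = 1 := by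
  have h : e.symm (a 2) * e.symm (a 2) = 1 := by
    rw [← map_mul]
    have : (a 2 : QuaternionGroup 2) * a 2 = 1 := by decide
    rw [this, map_one]
  exact congrArg Subtype.val h

omit [Finite Q] in
theorem zz_comm (q : Q) : q * zz D e = zz D e * q := by
  have h := kap_symm D e q (a 2)
  rw [map_a_two] at h
  change zz D e = q * zz D e * q⁻¹ at h
  rw [eq_mul_inv_iff_mul_eq] at h
  exact h.symm

omit [Finite Q] in
theorem mem_ker_iff (hc : centralizer (D : Set Q) ≤ D) (q : Q) :
    kap D e q = 1 ↔ q = 1 ∨ q = zz D e := by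
  constructor
  · intro h
    have h1 : ∀ x ∈ D, q * x * q⁻¹ = x := by
      intro x hx
      have h2 := kap_apply D e q ⟨x, hx⟩
      rw [h, MulAut.one_apply] at h2
      have h3 := e.injective h2
      exact (congrArg Subtype.val h3).symm
    have hqD : q ∈ D := by
      apply hc
      rw [mem_centralizer_iff]
      intro x hx
      have := h1 x hx
      rw [mul_inv_eq_iff_eq_mul] at this
      exact this.symm
    have h4 : ∀ y, e ⟨q, hqD⟩ * y = y * e ⟨q, hqD⟩ := by
      intro y
      obtain ⟨x, rfl⟩ := e.surjective y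
      rw [← map_mul, ← map_mul]
      congr 1
      apply Subtype.ext
      have := h1 x x.2
      rw [mul_inv_eq_iff_eq_mul] at this
      exact this
    rcases central_cases _ h4 with h5 | h5
    · left
      have : (⟨q, hqD⟩ : D) = 1 := by
        apply e.injective; rw [h5, map_one]
      exact congrArg Subtype.val this
    · right
      have : (⟨q, hqD⟩ : D) = e.symm (a 2) := by
        apply e.injective; rw [h5, e.apply_symm_apply]
      exact congrArg Subtype.val this
  · rintro (rfl | rfl)
    · exact map_one _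
    · ext y
      obtain ⟨x, rfl⟩ := e.surjective y
      rw [kap_apply, MulAut.one_apply]
      congr 1
      apply Subtype.ext
      change zz D e * x * (zz D e)⁻¹ = x
      rw [← zz_comm, mul_inv_cancel_right]

omit [Finite Q] in
theorem ker_eq (hc : centralizer (D : Set Q) ≤ D) : (kap D e).ker = center Q := by
  ext q
  rw [MonoidHom.mem_ker, mem_ker_iff D e hc]
  constructor
  · rintro (rfl | rfl)
    · exact one_mem _
    · rw [mem_center_iff]
      intro g
      exact zz_comm D e g
  · intro h
    rw [← mem_ker_iff D e hc]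
    ext y
    obtain ⟨x, rfl⟩ := e.surjective y
    rw [kap_apply, MulAut.one_apply]
    congr 1
    apply Subtype.ext
    change q * x * q⁻¹ = x
    rw [mem_center_iff] at h
    rw [← h, mul_inv_cancel_right]

include e in
omit [Finite Q] in
theorem card_center (hc : centralizer (D : Set Q) ≤ D) : Nat.card (center Q) = 2 := by
  rw [← ker_eq D e hc]
  have h : ((kap D e).ker : Set Q) = {1, zz D e} := by
    ext q
    rw [SetLike.mem_coe, MonoidHom.mem_ker, mem_ker_iff D e hc]
    simp
  have h2 : Nat.card (kap D e).ker = Set.ncard ((kap D e).ker : Set Q) := rfl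
  rw [h2, h, Set.ncard_pair (zz_ne D e).symm]

include e in
omit [Finite Q] [D.Normal] in
theorem card_eight : Nat.card D = 8 := by
  rw [Nat.card_congr e.toEquiv, Nat.card_eq_fintype_card, QuaternionGroup.card]

/-- the numerical part -/
theorem card_eq (hc : centralizer (D : Set Q) ≤ D)
    (h2 : ¬ ∃ P : Sylow 2 Q, (P : Subgroup Q).Normal) :
    Nat.card Q = 48 ∧ Function.Surjective (kap D e) := by
  have f2 : Fact (Nat.Prime 2) := ⟨Nat.prime_two⟩
  have h1 : Nat.card Q = 2 * Nat.card (kap D e).range := by
    have hcc := card_center D e hc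
    rw [← ker_eq D e hc] at hcc
    have := (kap D e).ker.card_mul_index
    rw [hcc, Subgroup.index_ker] at this
    exact this.symm
  have h24 : Nat.card (kap D e).range ∣ 24 := by
    rw [← card_mulAut]
    exact card_subgroup_dvd_card _
  have h8 : 8 ∣ Nat.card Q := by
    rw [← card_eight D e]
    exact card_subgroup_dvd_card D
  have hnp : ∀ n, Nat.card Q ≠ 2 ^ n := by
    intro n hn
    apply h2
    have hp : IsPGroup 2 Q := IsPGroup.of_card hn
    obtain ⟨P⟩ : Nonempty (Sylow 2 Q) := inferInstance
    refine ⟨P, ?_⟩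
    have h8 : (P : Subgroup Q) = ⊤ := (P.is_maximal' (hp.to_subgroup ⊤) le_top).symm
    rw [h8]; infer_instance
  have h24' : Nat.card Q ≠ 24 := by
    intro h
    apply h2
    refine ⟨Sylow.ofCard D ?_, ?_⟩
    · rw [card_eight D e, h]
      have : Nat.factorization 24 2 = 3 := by
        rw [show (24 : ℕ) = 2 ^ 3 * 3 by norm_num, Nat.factorization_mul (by norm_num) (by norm_num),
          Nat.Prime.factorization_pow Nat.prime_two, Nat.Prime.factorization Nat.prime_three,
          Finsupp.add_apply, Finsupp.single_eq_same, Finsupp.single_eq_of_ne (by norm_num), add_zero]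
      rw [this]; norm_num
    · rw [Sylow.coe_ofCard]; infer_instance
  have hr : Nat.card (kap D e).range = 24 := by
    have hle := Nat.le_of_dvd (by norm_num) h24
    generalize Nat.card (kap D e).range = r at *
    have e3 := hnp 3
    have e4 := hnp 4
    interval_cases r <;> omega
  refine ⟨by rw [h1, hr], ?_⟩
  rw [← MonoidHom.range_eq_top]
  exact eq_top_of_card_eq _ (by rw [hr, card_mulAut])

include e in
theorem quot_equiv (hc : centralizer (D : Set Q) ≤ D)
    (h2 : ¬ ∃ P : Sylow 2 Q, (P : Subgroup Q).Normal) :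
    Nonempty (Q ⧸ center Q ≃* Equiv.Perm (Fin 4)) := by
  obtain ⟨f⟩ := mulAut_equiv
  have h := (card_eq D e hc h2).2
  exact ⟨(QuotientGroup.quotientMulEquivOfEq (ker_eq D e hc).symm).trans
    ((QuotientGroup.quotientKerEquivOfSurjective _ h).trans f)⟩

/-- the case of a single involution -/
theorem quat_case (hc : centralizer (D : Set Q) ≤ D)
    (h2 : ¬ ∃ P : Sylow 2 Q, (P : Subgroup Q).Normal)
    (hu : ∀ x : Q, x * x = 1 → x = 1 ∨ x = zz D e) (P : Sylow 2 Q) :
    Nonempty (P ≃* QuaternionGroup 4) := by
  have f2 : Fact (Nat.Prime 2) := ⟨Nat.prime_two⟩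
  have hcard := (card_eq D e hc h2).1
  have hDP : D ≤ P := by
    apply IsPGroup.le_sylow_of_normal
    exact IsPGroup.of_card (n := 3) (card_eight D e)
  have hPc : Nat.card P = 16 := by
    rw [P.card_eq_multiplicity, hcard]
    have : Nat.factorization 48 2 = 4 := by
      rw [show (48 : ℕ) = 2 ^ 4 * 3 by norm_num, Nat.factorization_mul (by norm_num) (by norm_num),
        Nat.Prime.factorization_pow Nat.prime_two, Nat.Prime.factorization Nat.prime_three,
        Finsupp.add_apply, Finsupp.single_eq_same, Finsupp.single_eq_of_ne (by norm_num), add_zero]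
    rw [this]; norm_num
  have hU : Cfsg.Agent.Solvable.UniqueOrderP.UniqueP 2 P := by
    intro x y hx hx2 hy2
    have e1 : (x : Q) = zz D e := by
      rcases hu x (by rw [← sq]; exact congrArg Subtype.val hx2) with h | h
      · exact absurd (Subtype.ext h) hx
      · exact h
    rcases hu y (by rw [← sq]; exact congrArg Subtype.val hy2) with h | h
    · have : y = 1 := Subtype.ext h
      rw [this]; exact one_mem _
    · have : y = x := Subtype.ext (by rw [h, e1])
      rw [this]; exact mem_zpowers x
  rcases Cfsg.Agent.Solvable.UniqueOrderP.cyclic_or_quaternion P.isPGroup' hU with h | ⟨-, m, -, ⟨f⟩⟩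
  · exfalso
    have hD : IsCyclic D := isCyclic_of_injective (inclusion hDP) (inclusion_injective hDP)
    have hQ : IsCyclic (QuaternionGroup 2) := isCyclic_of_surjective e.toMonoidHom e.surjective
    have := hQ.commGroup.mul_comm
    have h1 : (a 1 : QuaternionGroup 2) * xa 0 = xa 0 * a 1 := by
      obtain ⟨g, hg⟩ := hQ.exists_generator
      obtain ⟨m, hm⟩ := mem_zpowers_iff.mp (hg (a 1))
      obtain ⟨n, hn⟩ := mem_zpowers_iff.mp (hg (xa 0))
      rw [← hm, ← hn]
      exact (Commute.refl g).zpow_zpow m n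
    exact absurd h1 (by decide)
  · have h1 : Nat.card P = 4 * 2 ^ m := by
      have : NeZero (2 ^ m) := ⟨by positivity⟩
      rw [Nat.card_congr f.toEquiv, Nat.card_eq_fintype_card, QuaternionGroup.card]
    have hm : m = 2 := by
      have h3 : 2 ^ m = 2 ^ 2 := by omega
      exact Nat.pow_right_injective le_rfl h3
    subst hm
    exact ⟨f⟩

/-- the case of a non-central involution -/
theorem gl_case (hc : centralizer (D : Set Q) ≤ D)
    (h2 : ¬ ∃ P : Sylow 2 Q, (P : Subgroup Q).Normal)
    (d : Q) (hd : d * d = 1) (hd1 : d ≠ 1) (hdz : d ≠ zz D e) :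
    Nonempty (Q ≃* Matrix.GeneralLinearGroup (Fin 2) (ZMod 3)) := by
  obtain ⟨hcard, hsurj⟩ := card_eq D e hc h2
  have hker := mem_ker_iff D e hc
  -- `d ∉ D`
  have hdD : d ∉ D := by
    intro h
    have h1 : e ⟨d, h⟩ * e ⟨d, h⟩ = 1 := by
      rw [← map_mul]
      have : (⟨d, h⟩ : D) * ⟨d, h⟩ = 1 := Subtype.ext hd
      rw [this, map_one]
    rcases sq_cases _ h1 with h3 | h3
    · apply hd1
      have : (⟨d, h⟩ : D) = 1 := e.injective (by rw [h3, map_one])
      exact congrArg Subtype.val this
    · apply hdz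
      have : (⟨d, h⟩ : D) = e.symm (a 2) := e.injective (by rw [h3, e.apply_symm_apply])
      exact congrArg Subtype.val this
  set δ : MulAut (QuaternionGroup 2) := kap D e d with hδ
  have hδ2 : ∀ g, δ (δ g) = g := by
    intro g
    rw [← MulAut.mul_apply, hδ, ← map_mul, hd, map_one, MulAut.one_apply]
  obtain ⟨p, q, u, ht⟩ := exists_trip _ _ (good_map δ)
    (fun g => by rw [← eq_cand δ, ← eq_cand δ, hδ2]) (by
      by_contra hcon
      push Not at hcon
      obtain ⟨w, hw⟩ := hcon
      apply hdD
      have h1 : kap D e ((e.symm w : D) : Q) = δ := by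
        ext g
        obtain ⟨x, rfl⟩ := e.surjective g
        have h3 := hw (e x)
        rw [← eq_cand δ] at h3
        rw [kap_apply]
        have h4 : (⟨((e.symm w : D) : Q) * x * ((e.symm w : D) : Q)⁻¹,
            (‹D.Normal›).conj_mem x x.2 _⟩ : D) = e.symm w * x * (e.symm w)⁻¹ := rfl
        rw [h4, map_mul, map_mul, map_inv, e.apply_symm_apply, mul_inv_eq_iff_eq_mul]
        exact h3.symm
      have h3 : kap D e (((e.symm w : D) : Q)⁻¹ * d) = 1 := by
        rw [map_mul, map_inv, h1, hδ, inv_mul_cancel]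
      rw [hker] at h3
      have h4 : ((e.symm w : D) : Q)⁻¹ * d ∈ D := by
        rcases h3 with h3 | h3
        · rw [h3]; exact one_mem _
        · rw [h3]; exact zz_mem D e
      have h5 := D.mul_mem (e.symm w).2 h4
      rwa [mul_inv_cancel_left] at h5)
  unfold trip at ht
  simp only [Bool.and_eq_true, decide_eq_true_eq] at ht
  obtain ⟨⟨⟨⟨⟨⟨⟨hpq, huu⟩, hdu⟩, hvv⟩, hvu⟩, hτv⟩, hτ3⟩, hτδ⟩ := ht
  set τ : MulAut (QuaternionGroup 2) := mkAut p q hpq with hτ
  have hτa : ∀ g, τ g = cand p q g := mkAut_apply p q hpq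
  have hδa : ∀ g, δ g = cand (δ (a 1)) (δ (xa 0)) g := eq_cand δ
  simp only [← hτa, ← hδa] at huu hdu hvv hvu hτv hτ3 hτδ
  -- lift `τ`
  have hz2 := zz_mul D e
  obtain ⟨t, htτ, ht3⟩ : ∃ t : Q, kap D e t = τ ∧ t ^ 3 = 1 := by
    obtain ⟨t₀, ht₀⟩ := hsurj τ
    have h1 : kap D e (t₀ ^ 3) = 1 := by
      rw [map_pow, ht₀]
      ext g
      rw [pow_succ, pow_two, MulAut.mul_apply, MulAut.mul_apply, MulAut.one_apply]
      exact hτ3 g
    rw [hker] at h1
    rcases h1 with h1 | h1
    · exact ⟨t₀, ht₀, h1⟩
    · refine ⟨t₀ * zz D e, ?_, ?_⟩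
      · rw [map_mul, ht₀, (hker (zz D e)).2 (Or.inr rfl), mul_one]
      · have hcm : Commute t₀ (zz D e) := zz_comm D e t₀
        rw [hcm.mul_pow, h1, pow_succ, sq, hz2, one_mul, hz2]
  have hdt : d * t * d⁻¹ = t⁻¹ := by
    have h1 : kap D e (t * (d * t * d⁻¹)) = 1 := by
      rw [map_mul, map_mul, map_mul, map_inv, htτ, ← hδ]
      ext g
      rw [MulAut.mul_apply, MulAut.mul_apply, MulAut.mul_apply, MulAut.one_apply]
      have h3 := hτδ (δ⁻¹ g)
      rw [h3, MulAut.apply_inv_self]
    rw [hker] at h1
    rcases h1 with h1 | h1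
    · exact (inv_eq_of_mul_eq_one_right h1).symm
    · exfalso
      have h3 : d * t * d⁻¹ = t⁻¹ * zz D e := by rw [← h1]; group
      have h4 : (d * t * d⁻¹) ^ 3 = 1 := by rw [conj_pow, ht3]; group
      have hcm : Commute t⁻¹ (zz D e) := zz_comm D e t⁻¹
      rw [h3, hcm.mul_pow, inv_pow, ht3, inv_one, one_mul, pow_succ, sq, hz2, one_mul] at h4
      exact zz_ne D e h4
  -- the elements of `D`
  set i : Q := ((e.symm u : D) : Q) with hi
  set j : Q := ((e.symm (τ u) : D) : Q) with hj
  have hiD : i ∈ D := (e.symm u).2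
  have hjD : j ∈ D := (e.symm (τ u)).2
  have hmul : ∀ x y : QuaternionGroup 2, ((e.symm (x * y) : D) : Q) = (e.symm x : D) * (e.symm y : D) := by
    intro x y; rw [map_mul]; rfl
  have hzz : ((e.symm (a 2) : D) : Q) = zz D e := rfl
  have hii : i * i = zz D e := by rw [hi, ← hmul, huu, hzz]
  have hjj : j * j = zz D e := by rw [hj, ← hmul, hvv, hzz]
  have hji : j * i = zz D e * (i * j) := by rw [hi, hj, ← hmul, hvu, hmul, hmul, hzz]
  have hinv : i⁻¹ = zz D e * i := by
    rw [inv_eq_iff_mul_eq_one, ← mul_assoc, zz_comm D e i, mul_assoc, hii, hz2]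
  have hrel : ERel 2 0 i j t d :=
    { hi := by rw [show 4 = 2 + 2 from rfl, pow_add, sq, hii, hz2]
      hj := by rw [sq, sq, hii, hjj]
      hji := by
        rw [hji, hinv, mul_assoc, mul_inv_cancel_right]
      hti := by
        rw [hj, hi, ← htτ, kap_symm]
      htj := by
        have h1 := kap_symm D e t (τ u)
        rw [htτ, hτv, hmul] at h1
        exact h1.symm
      ht := ht3
      hdn := by rw [pow_zero, sq, hd]
      hdt := hdt
      hdi := by
        have h1 := kap_symm D e d u
        rw [← hδ] at h1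
        rw [← hi] at h1
        rw [← h1]
        have h3 : ((e.symm (δ u) : D) : Q) * i = 1 := by
          rw [hi, ← hmul, hdu, map_one]; rfl
        exact eq_inv_of_mul_eq_one_left h3 }
  have hi2 : i ^ 2 ≠ 1 := by rw [sq, hii]; exact zz_ne D e
  refine gl23 hrel (hrel.closure_eq_top (by norm_num) hi2 ?_ (by rw [hcard])) hcard
  intro k hk0 hk2
  have hk : k = 1 := by omega
  subst hk
  rw [pow_one]
  intro hmem
  -- elements of the closure are `t ^ k` modulo `D`
  have key : ∀ x ∈ closure ({i, j, t} : Set Q), ∃ m : ℤ, t ^ m * x ∈ D := by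
    intro x hx
    let π := QuotientGroup.mk' D
    have h1 : closure ({i, j, t} : Set Q) ≤ (zpowers (π t)).comap π := by
      rw [closure_le]
      rintro y (rfl | rfl | hy)
      · rw [SetLike.mem_coe, mem_comap]
        have : π i = 1 := (QuotientGroup.eq_one_iff _).mpr hiD
        rw [this]; exact one_mem _
      · rw [SetLike.mem_coe, mem_comap]
        have : π j = 1 := (QuotientGroup.eq_one_iff _).mpr hjD
        rw [this]; exact one_mem _
      · rw [Set.mem_singleton_iff] at hy
        subst hy
        exact mem_zpowers _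
    obtain ⟨m, hm⟩ := mem_zpowers_iff.mp (mem_comap.mp (h1 hx))
    refine ⟨-m, ?_⟩
    rw [← QuotientGroup.eq_one_iff (N := D)]
    change π (t ^ (-m) * x) = 1
    rw [map_mul, map_zpow, ← hm]
    group
  obtain ⟨m, hm⟩ := key d hmem
  -- `d = d ^ 3 ≡ t ^ (-3 m) = 1`
  apply hdD
  let π := QuotientGroup.mk' D
  have h1 : (π t) ^ m * π d = 1 := by
    have : π (t ^ m * d) = 1 := (QuotientGroup.eq_one_iff _).mpr hm
    rwa [map_mul, map_zpow] at this
  have h3 : π d = (π t) ^ (-m) := by
    rw [zpow_neg]; exact (inv_eq_of_mul_eq_one_right h1).symm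
  have h4 : π d * π d = 1 := by rw [← map_mul, hd, map_one]
  have h5 : (π d) ^ 3 = 1 := by
    rw [h3, ← zpow_natCast, ← zpow_mul, mul_comm, zpow_mul, zpow_natCast, ← map_pow, ht3, map_one,
      one_zpow]
  have h6 : π d = 1 := by
    rw [pow_succ, sq, h4, one_mul] at h5
    exact h5
  exact (QuotientGroup.eq_one_iff _).mp h6

end Cfsg.Agent.H334.Q8Case
end
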